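import Cfsg.Agent.H546.AN6.Base

/-!
# S4766, piece E3 (`n = 6`): homomorphisms to `Aut(A_6)` (helper546)
-/

set_option autoImplicit false

namespace Cfsg.Agent.H546.AN6

open Cfsg Cfsg.Agent.H691.AN Cfsg.Agent.H277.SK Equiv Equiv.Perm
open scoped commutatorElement

theorem exists_T3 : ∃ x : An 6, T3 x :=
  ⟨⟨cA, by rw [Perm.mem_alternatingGroup]; decide⟩, three_cA⟩

theorem pr_Q3 {α : MulAut (An 6)} (h : Pr α) {y : An 6} (hy : Q3 y) : Q3 (α y) := by
  rcases map_Q3 (α := α) hy with h1 | h1
  · obtain ⟨x, hx⟩ := exists_T3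
    exact (T3_not_Q3 (T3_conj (conj_of_map (conj_T3 (h x hx) h1)) hx) hy).elim
  · exact h1

theorem pr_mul_iff (a b : MulAut (An 6)) : Pr (a * b) ↔ (Pr a ↔ Pr b) := by
  obtain ⟨x, hx⟩ := exists_T3
  by_cases ha : Pr a <;> by_cases hb : Pr b
  · refine ⟨fun _ => ⟨fun _ => hb, fun _ => ha⟩, fun _ y hy => ?_⟩
    rw [MulAut.mul_apply]
    exact ha _ (hb _ hy)
  · refine ⟨fun h => ?_, fun h => absurd (h.1 ha) hb⟩
    exfalso
    have h1 := h x hx
    rw [MulAut.mul_apply] at h1
    rcases map_T3 (α := b) hx with h2 | h2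
    · exact hb (pr_of_T3 hx h2)
    · exact T3_not_Q3 h1 (pr_Q3 ha h2)
  · refine ⟨fun h => ?_, fun h => absurd (h.2 hb) ha⟩
    exfalso
    have h1 := h x hx
    rw [MulAut.mul_apply] at h1
    exact ha (pr_of_T3 (hb x hx) h1)
  · exact ⟨fun _ => ⟨fun h => absurd h ha, fun h => absurd h hb⟩, fun _ => Cfsg.Agent.H277.SK.pr_mul ha hb⟩

/-- a predicate behaving like a sign holds on the commutator subgroup -/
theorem of_mem_commutator {G A : Type*} [Group G] [Group A] (α : G →* A) (P : A → Prop)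
    (H : ∀ a b : G, P (α a * α b) ↔ (P (α a) ↔ P (α b))) {g : G} (hg : g ∈ commutator G) : P (α g) := by
  have h1 : P (α 1) := by
    have := H 1 1
    rw [← map_mul, mul_one] at this
    exact this.2 Iff.rfl
  have hinv : ∀ a : G, P (α a⁻¹) ↔ P (α a) := by
    intro a
    have := H a a⁻¹
    rw [← map_mul, mul_inv_cancel] at this
    exact (this.1 h1).symm
  let Q : Subgroup G :=
    { carrier := {g | P (α g)}
      one_mem' := h1
      mul_mem' := by
        intro a b ha hb
        show P (α (a * b))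
        rw [map_mul, H]
        exact ⟨fun _ => hb, fun _ => ha⟩
      inv_mem' := by
        intro a ha
        exact (hinv a).2 ha }
  have hle : commutator G ≤ Q := by
    rw [commutator_def, Subgroup.commutator_le]
    intro a _ b _
    show P (α ⁅a, b⁆)
    rw [commutatorElement_def]
    have e1 := H (a * b * a⁻¹) b⁻¹
    have e2 := H (a * b) a⁻¹
    have e3 := H a b
    rw [← map_mul] at e1 e2 e3
    rw [e1, e2, e3, hinv, hinv]
    tauto
  exact hle hg

/-- a homomorphism into the automorphisms preserving the 3-cycles factors through `S_6` -/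
theorem exists_perm {G : Type*} [Group G] (α : G →* MulAut (An 6)) (h : ∀ g, Pr (α g)) :
    ∃ γ : G →* Perm (Fin 6), ∀ g, cn (γ g) = α g := by
  choose γ hγ using fun g => pr_cn (h g)
  exact ⟨MonoidHom.mk' γ (fun a b => cn_inj (by rw [map_mul, hγ, hγ, hγ, map_mul])), hγ⟩

theorem cn_eq_conj (x : An 6) : cn (x : Perm (Fin 6)) = MulAut.conj x := by
  apply MulEquiv.ext
  intro y
  apply Subtype.ext
  rw [cn_apply, MulAut.conj_apply]
  rfl

theorem conj_inj : Function.Injective (MulAut.conj : An 6 →* MulAut (An 6)) := by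
  intro x y h
  rw [← cn_eq_conj, ← cn_eq_conj] at h
  exact Subtype.ext (cn_inj h)

theorem commutator_six : commutator (An 6) = ⊤ := by
  rcases (inferInstance : (commutator (An 6)).Normal).eq_bot_or_eq_top with h | h
  · exfalso
    have h1 : ∀ a b : An 6, a * b = b * a := by
      intro a b
      have h2 : ⁅a, b⁆ ∈ commutator (An 6) := Subgroup.commutator_mem_commutator (Subgroup.mem_top _) (Subgroup.mem_top _)
      rw [h, Subgroup.mem_bot, commutatorElement_eq_one_iff_mul_comm] at h2
      exact h2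
    have h2 := h1 (fA (Multiplicative.ofAdd (1, 0))) ⟨swap 0 1 * swap 3 4, by rw [Perm.mem_alternatingGroup]; decide⟩
    have h3 := congrArg Subtype.val h2
    revert h3
    decide
  · exact h

/-- the derived subgroup, if perfect, acts as `A_6` -/
theorem exists_beta {G : Type*} [Group G] (α : G →* MulAut (An 6)) (hα : ∀ x : An 6, ∃ g : G, α g = MulAut.conj x)
    (hperf : commutator (commutator G) = ⊤) :
    ∃ β : commutator G →* An 6, Function.Surjective β ∧ ∀ n : commutator G, α n = MulAut.conj (β n) := by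
  obtain ⟨γ, hγ⟩ := exists_perm (α.comp (commutator G).subtype)
    (fun n => of_mem_commutator α Pr (fun a b => pr_mul_iff _ _) n.2)
  have hs : ∀ n, γ n ∈ alternatingGroup (Fin 6) := by
    intro n
    have h1 : commutator (commutator G) ≤ (sign.comp γ : commutator G →* ℤˣ).ker :=
      Abelianization.commutator_subset_ker _
    rw [hperf] at h1
    exact h1 (Subgroup.mem_top n)
  have hβ : ∀ n : commutator G, α n = MulAut.conj (γ.codRestrict _ hs n) := by
    intro n
    rw [← cn_eq_conj]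
    exact (hγ n).symm
  refine ⟨γ.codRestrict _ hs, ?_, hβ⟩
  let Q : Subgroup (An 6) := ((commutator G).map α).comap MulAut.conj
  have hQ : commutator (An 6) ≤ Q := by
    rw [commutator_def, Subgroup.commutator_le]
    intro x _ y _
    obtain ⟨g, hg⟩ := hα x
    obtain ⟨k, hk⟩ := hα y
    refine ⟨⁅g, k⁆, Subgroup.commutator_mem_commutator (Subgroup.mem_top _) (Subgroup.mem_top _), ?_⟩
    rw [map_commutatorElement, map_commutatorElement, hg, hk]
  rw [commutator_six] at hQ
  intro x
  obtain ⟨n, hn, hnx⟩ := hQ (Subgroup.mem_top x)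
  refine ⟨⟨n, hn⟩, conj_inj ?_⟩
  rw [← hβ]
  exact hnx

/-- equivariance -/
theorem beta_conj {G : Type*} [Group G] {α : G →* MulAut (An 6)} {β : commutator G →* An 6}
    (hβ : ∀ n : commutator G, α n = MulAut.conj (β n)) (g : G) (n n' : commutator G) (h : (n' : G) = g * n * g⁻¹) :
    β n' = α g (β n) := by
  apply conj_inj
  rw [← hβ, h, map_mul, map_mul, map_inv, hβ]
  apply MulEquiv.ext
  intro x
  rw [MulAut.mul_apply, MulAut.mul_apply, MulAut.conj_apply, MulAut.conj_apply, map_mul, map_mul, map_inv,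
    MulAut.apply_inv_self]

/-- either `G` maps onto `A_6` or onto `S_6` -/
theorem exists_f {G : Type*} [Group G] {α : G →* MulAut (An 6)} (hα : ∀ x : An 6, ∃ g : G, α g = MulAut.conj x)
    (hpr : ∀ g, Pr (α g)) :
    (∃ γ : G →* Perm (Fin 6), Function.Surjective γ) ∨
      ∃ f : G →* An 6, Function.Surjective f ∧ ∀ g, α g = MulAut.conj (f g) := by
  obtain ⟨γ, hγ⟩ := exists_perm α hpr
  have hA : ∀ σ ∈ alternatingGroup (Fin 6), ∃ g, γ g = σ := by
    intro σ hσ
    obtain ⟨g, hg⟩ := hα ⟨σ, hσ⟩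
    refine ⟨g, cn_inj ?_⟩
    rw [hγ, hg, ← cn_eq_conj]
  by_cases h : ∀ g, γ g ∈ alternatingGroup (Fin 6)
  · right
    refine ⟨γ.codRestrict _ h, ?_, ?_⟩
    · rintro ⟨σ, hσ⟩
      obtain ⟨g, hg⟩ := hA σ hσ
      exact ⟨g, Subtype.ext hg⟩
    · intro g
      rw [← cn_eq_conj]
      exact (hγ g).symm
  · left
    push Not at h
    obtain ⟨g0, hg0⟩ := h
    refine ⟨γ, fun σ => ?_⟩
    by_cases hσ : σ ∈ alternatingGroup (Fin 6)
    · exact hA σ hσ
    · have h1 : σ * (γ g0)⁻¹ ∈ alternatingGroup (Fin 6) := by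
        rw [Perm.mem_alternatingGroup] at hσ hg0 ⊢
        have h2 := (Int.units_eq_one_or (sign σ)).resolve_left hσ
        have h3 := (Int.units_eq_one_or (sign (γ g0))).resolve_left hg0
        rw [map_mul, map_inv, h2, h3]
        decide
      obtain ⟨g, hg⟩ := hA _ h1
      exact ⟨g * g0, by rw [map_mul, hg, inv_mul_cancel_right]⟩

end Cfsg.Agent.H546.AN6
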