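import Cfsg.Agent.H117.O1.AltDeg
import Cfsg.Agent.H704.Enum
import Cfsg.Agent.H277.SK.AltSix
import Cfsg.Agent.H681.DegBasic
import Cfsg.Agent.H672.Over
import Cfsg.Agent.H686.CharKit
import Cfsg.Agent.H525.AltK
import Cfsg.Agent.J3Type.CharTools
import Cfsg.Agent.Characters.Values
import Cfsg.Agent.H691.AN.Defs

/-!
# S4766, piece E3 (`n = 6`): facts about `A_6` (helper546)

* `D6_cases`, `five_mem`, `nine_mem`, `sixteen_mem` : degrees of `A_6` and `S_6`;
* `index_ge` : proper subgroups of `A_6` have index at least 6;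
* `not_inert` : D2 for `n = 6`;
* `theta_ne` : a character of degree 5 separates the two classes of elements of order 3.
-/

set_option autoImplicit false

namespace Cfsg.Agent.H546.AN6

open Cfsg Cfsg.Agent.H704 Cfsg.Agent.H691.AN Cfsg.Agent.H277.SK Equiv Equiv.Perm

/-! ### degrees -/

theorem D6_cases {d : ℕ} (h : d ∈ D 6) : d = 1 ∨ d = 5 ∨ d = 8 ∨ d = 9 ∨ d = 10 := by
  obtain ⟨l, hl, h1⟩ := (Cfsg.Agent.H117.O1.mem_charDegrees_alt (by norm_num)).1 h
  have hpos : 0 < hookProd l := by
    apply Nat.pos_of_ne_zero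
    intro h0
    rcases h1 with ⟨-, h1⟩ | ⟨-, h1⟩ <;> rw [h0, mul_zero] at h1 <;>
      exact absurd h1.symm (Nat.factorial_pos 6).ne'
  have h2 := check_of_isPart (n := 6) (chk := fun l H =>
      (if transpose l = l then decide (Nat.div 720 (2 * H) ∈ [1, 5, 8, 9, 10])
        else decide (Nat.div 720 H ∈ [1, 5, 8, 9, 10]))) (by decide +kernel) hl
  have h6 : Nat.factorial 6 = 720 := by decide
  rcases h1 with ⟨ht, h1⟩ | ⟨ht, h1⟩
  · rw [if_neg ht, decide_eq_true_eq] at h2
    rw [h6] at h1
    have h3 : Nat.div 720 (hookProd l) = d := by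
      rw [← h1]
      exact Nat.mul_div_cancel d hpos
    rw [h3] at h2
    simpa using h2
  · rw [if_pos ht, decide_eq_true_eq] at h2
    rw [h6] at h1
    have h3 : Nat.div 720 (2 * hookProd l) = d := by
      rw [← h1, show 2 * d * hookProd l = d * (2 * hookProd l) by ring]
      exact Nat.mul_div_cancel d (by omega)
    rw [h3] at h2
    simpa using h2

theorem isPart_of {l : List ℕ} {n : ℕ} (h : (l.Pairwise (· ≥ ·)) ∧ (∀ a ∈ l, 0 < a) ∧ l.sum = n) : IsPart l n :=
  ⟨h.1, h.2.1, h.2.2⟩

theorem five_mem : 5 ∈ D 6 := by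
  refine (Cfsg.Agent.H117.O1.mem_charDegrees_alt (by norm_num)).2 ⟨[5, 1], isPart_of (by decide), Or.inl ?_⟩
  decide

theorem nine_mem : 9 ∈ D 6 := by
  refine (Cfsg.Agent.H117.O1.mem_charDegrees_alt (by norm_num)).2 ⟨[4, 2], isPart_of (by decide), Or.inl ?_⟩
  decide

theorem sixteen_mem : 16 ∈ charDegrees (Perm (Fin 6)) := by
  refine (Cfsg.Agent.H117.O1.mem_charDegrees_perm).2 ⟨[3, 2, 1], isPart_of (by decide), ?_⟩
  decide

/-! ### subgroups -/

instance instSimpleSix : IsSimpleGroup (An 6) :=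
  alternatingGroup.isSimpleGroup (by rw [Nat.card_eq_fintype_card, Fintype.card_fin]; norm_num)

theorem card_six : Nat.card (An 6) = 360 := by
  have h := nat_card_alternatingGroup (α := Fin 6)
  rw [Nat.card_eq_fintype_card, Nat.card_eq_fintype_card (α := Fin 6), Fintype.card_fin] at h
  rw [Nat.card_eq_fintype_card, h]
  decide

/-- a proper subgroup of a simple group of order `> k!` has index `> k` -/
theorem lt_index {S : Type*} [Group S] [Finite S] [IsSimpleGroup S] {k : ℕ} (hk : k.factorial < Nat.card S)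
    {T : Subgroup S} (hT : T ≠ ⊤) : k < T.index := by
  by_contra hcon
  push Not at hcon
  have h1 : T.normalCore = ⊥ := by
    rcases (inferInstance : T.normalCore.Normal).eq_bot_or_eq_top with h | h
    · exact h
    · exact absurd (top_le_iff.1 (h ▸ T.normalCore_le)) hT
  have h2 : Function.Injective (MulAction.toPermHom S (S ⧸ T)) := by
    rw [← MonoidHom.ker_eq_bot_iff, ← Subgroup.normalCore_eq_ker, h1]
  have h3 := Nat.card_le_card_of_injective _ h2
  have hf : Finite (S ⧸ T) := inferInstance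
  rw [Nat.card_perm] at h3
  have h4 : (Nat.card (S ⧸ T)).factorial ≤ k.factorial := Nat.factorial_le hcon
  omega

theorem index_ge {T : Subgroup (An 6)} (hT : T ≠ ⊤) : 6 ≤ T.index := by
  have := lt_index (k := 5) (by rw [card_six]; decide) hT
  omega

theorem comm_of_card_le {T : Type*} [Group T] [Finite T] (h : Nat.card T ≤ Nat.card (ConjClasses T)) (a b : T) :
    a * b = b * a := by
  have hs : Function.Surjective (ConjClasses.mk : T → ConjClasses T) := ConjClasses.mk_surjective
  have hi : Function.Injective (ConjClasses.mk : T → ConjClasses T) := by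
    have hf : Finite (ConjClasses T) := Finite.of_surjective _ hs
    have hc : Nat.card T = Nat.card (ConjClasses T) := le_antisymm h (Nat.card_le_card_of_surjective _ hs)
    have hb : Function.Bijective (ConjClasses.mk : T → ConjClasses T) :=
      (Nat.bijective_iff_surjective_and_card _).2 ⟨hs, hc⟩
    exact hb.1
  have h1 : ConjClasses.mk (a * b * a⁻¹) = ConjClasses.mk b :=
    ConjClasses.mk_eq_mk_iff_isConj.2 (isConj_iff.2 ⟨a⁻¹, by group⟩)
  have h2 := hi h1
  calc a * b = (a * b * a⁻¹) * a := by group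
    _ = b * a := by rw [h2]

/-- the centralizers in `S_6` of the elements of order 3 or 5 have order at most 18 -/
theorem card_centralizer_le {x : An 6} (h : orderOf x = 3 ∨ orderOf x = 5) :
    Nat.card (Subgroup.centralizer {(x : Perm (Fin 6))}) ≤ 18 := by
  rw [Equiv.Perm.nat_card_centralizer]
  rcases h with h | h
  · rcases T3_or_Q3 h with h1 | h1
    · rw [show (x : Perm (Fin 6)).cycleType = {3} from h1]
      decide
    · rw [show (x : Perm (Fin 6)).cycleType = {3, 3} from h1]
      decide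
  · have h5 : orderOf (x : Perm (Fin 6)) = 5 := by rw [Subgroup.orderOf_coe]; exact h
    obtain ⟨n, hn⟩ := cycleType_prime_order (σ := (x : Perm (Fin 6))) (by rw [h5]; exact Nat.prime_five)
    rw [h5] at hn
    have h4 := Equiv.Perm.sum_cycleType (x : Perm (Fin 6))
    have h6 : (x : Perm (Fin 6)).support.card ≤ 6 := by
      have := Finset.card_le_univ (x : Perm (Fin 6)).support
      rwa [Fintype.card_fin] at this
    rw [hn, Multiset.sum_replicate, smul_eq_mul] at h4
    have h7 : n = 0 := by omega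
    subst h7
    rw [hn]
    decide

/-- an abelian subgroup of `A_6` of order divisible by 3 or 5 has order at most 18 -/
theorem card_abelian_le {T : Subgroup (An 6)} (hT : ∀ a ∈ T, ∀ b ∈ T, a * b = b * a)
    (hd : 3 ∣ Nat.card T ∨ 5 ∣ Nat.card T) : Nat.card T ≤ 18 := by
  obtain ⟨x, hx⟩ : ∃ x : T, orderOf x = 3 ∨ orderOf x = 5 := by
    rcases hd with hd | hd
    · have := Fact.mk Nat.prime_three
      obtain ⟨x, hx⟩ := exists_prime_orderOf_dvd_card' 3 hd
      exact ⟨x, Or.inl hx⟩
    · have := Fact.mk Nat.prime_five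
      obtain ⟨x, hx⟩ := exists_prime_orderOf_dvd_card' 5 hd
      exact ⟨x, Or.inr hx⟩
  have hx' : orderOf (x : An 6) = 3 ∨ orderOf (x : An 6) = 5 := by rwa [Subgroup.orderOf_coe]
  refine le_trans ?_ (card_centralizer_le hx')
  refine Nat.card_le_card_of_injective
    (fun t : T => (⟨((t : An 6) : Perm (Fin 6)), ?_⟩ : Subgroup.centralizer {((x : An 6) : Perm (Fin 6))})) ?_
  · rw [Subgroup.mem_centralizer_singleton_iff]
    have := hT t t.2 x x.2
    exact congrArg Subtype.val this
  · intro s t hst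
    have := congrArg Subtype.val hst
    exact Subtype.ext (Subtype.ext this)

/-- **D2 for `n = 6`** -/
theorem not_inert {T : Subgroup (An 6)} (hT : T ≠ ⊤) : ¬ Inert 6 T := by
  rintro ⟨e, d, hd, hdvd, hle⟩
  have h6 := index_ge hT
  have hc : Nat.card T * T.index = 360 := by rw [T.card_mul_index, card_six]
  have hd10 : d ≤ 10 ∧ 0 < d := by
    rcases D6_cases hd with rfl | rfl | rfl | rfl | rfl <;> omega
  have hle' : T.index * e ≤ d := Nat.le_of_dvd hd10.2 hdvd
  have he : e ≤ 1 := by
    by_contra hcon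
    have : T.index * 2 ≤ T.index * e := Nat.mul_le_mul_left _ (by omega)
    omega
  have hpos : 0 < Nat.card T := Nat.card_pos
  have he1 : e = 1 := by
    interval_cases e
    · simp at hle; omega
    · rfl
  subst he1
  rw [one_pow, mul_one] at hle
  have hcomm := comm_of_card_le hle
  have hidx : T.index ≤ 10 := by omega
  have h36 : 36 ≤ Nat.card T := by
    by_contra hcon
    have : Nat.card T * T.index ≤ 35 * 10 := Nat.mul_le_mul (by omega) hidx
    omega
  have hdv : 3 ∣ Nat.card T ∨ 5 ∣ Nat.card T := by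
    generalize Nat.card T = c at *
    generalize T.index = i at *
    interval_cases i <;> omega
  have := card_abelian_le (T := T) (fun a ha b hb => congrArg Subtype.val (hcomm ⟨a, ha⟩ ⟨b, hb⟩)) hdv
  omega

/-! ### the characters of degree 5 -/

open Cfsg.Agent.Characters.Core in
/-- a nontrivial irreducible character of a simple group is faithful -/
theorem eq_one_of_apply_eq {S : Type*} [Group S] [Finite S] [IsSimpleGroup S] {θ : S → ℂ} (hθ : IsIrrCharacter S θ)
    (hne : θ ≠ 1) {g : S} (hg : θ g = θ 1) : g = 1 := by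
  classical
  have := Fintype.ofFinite S
  by_contra hg1
  rcases (inferInstance : (Cfsg.Agent.H686.CharKit.chKer ⟨θ, hθ⟩).Normal).eq_bot_or_eq_top with h | h
  · apply hg1
    have h1 : g ∈ Cfsg.Agent.H686.CharKit.chKer ⟨θ, hθ⟩ := hg
    rw [h] at h1
    exact Subgroup.mem_bot.1 h1
  · have h1 : ∀ y, θ y = θ 1 := fun y => by
      have : y ∈ Cfsg.Agent.H686.CharKit.chKer ⟨θ, hθ⟩ := by rw [h]; exact Subgroup.mem_top y
      exact this
    have h2 := classInner_irr_ne hθ isIrr_one hne
    rw [classInner_def] at h2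
    have h3 : ∑ y : S, θ y * (starRingEnd ℂ) ((1 : S → ℂ) y) = (Nat.card S : ℂ) * θ 1 := by
      rw [Finset.sum_congr rfl (g := fun _ => θ 1) (fun y _ => by simp [h1 y])]
      rw [Finset.sum_const, Finset.card_univ, nsmul_eq_mul, Nat.card_eq_fintype_card]
    rw [h3, inv_mul_cancel_left₀ card_ne_zero_complex] at h2
    exact isIrr_apply_one_ne_zero hθ h2

/-- two commuting 3-cycles -/
def cA : Perm (Fin 6) := swap 0 1 * swap 0 2
def cB : Perm (Fin 6) := swap 3 4 * swap 3 5

/-- the Sylow 3-subgroup of `S_6` -/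
def fP : Multiplicative (ZMod 3 × ZMod 3) →* Perm (Fin 6) :=
  MonoidHom.mk' (fun v => cA ^ (Multiplicative.toAdd v).1.val * cB ^ (Multiplicative.toAdd v).2.val) (by decide +kernel)

theorem fP_mem (v : Multiplicative (ZMod 3 × ZMod 3)) : fP v ∈ alternatingGroup (Fin 6) := by
  rw [Perm.mem_alternatingGroup]
  revert v
  decide +kernel

def fA : Multiplicative (ZMod 3 × ZMod 3) →* An 6 := fP.codRestrict _ fP_mem

theorem three_cA : cA.IsThreeCycle := isThreeCycle_swap_mul_swap_same (by decide) (by decide) (by decide)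
theorem three_cB : cB.IsThreeCycle := isThreeCycle_swap_mul_swap_same (by decide) (by decide) (by decide)

theorem fA_type (v : Multiplicative (ZMod 3 × ZMod 3)) (hv : v ≠ 1) : T3 (fA v) ∨ Q3 (fA v) := by
  apply T3_or_Q3
  apply orderOf_eq_prime
  · have h : ∀ v : Multiplicative (ZMod 3 × ZMod 3), v ^ 3 = 1 := by decide
    rw [← map_pow, h, map_one]
  · intro h1
    apply hv
    have h2 : fP v = 1 := congrArg Subtype.val h1
    revert v
    decide +kernel

open Cfsg.Agent.Characters.Core in
theorem theta_ne {θ : An 6 → ℂ} (hθ : IsIrrCharacter (An 6) θ) (h5 : θ 1 = 5) {x y : An 6} (hx : T3 x) (hy : Q3 y) :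
    θ x ≠ θ y := by
  classical
  intro heq
  have hcl := isIrr_isClassFunction hθ
  have hT : ∀ z : An 6, T3 z → θ z = θ x := fun z hz => by
    obtain ⟨g, hg⟩ := isConj_iff.1 (conj_T3 hx hz)
    rw [← hg]
    exact hcl x g
  have hQ : ∀ z : An 6, Q3 z → θ z = θ x := fun z hz => by
    obtain ⟨g, hg⟩ := isConj_iff.1 (conj_Q3 hy hz)
    rw [← hg, hcl y g, heq]
  obtain ⟨a, ha⟩ := Cfsg.Agent.J3Type.CharTools.int_of_conj (isIrr_isCharacter hθ) x (fun m hm => by
    rw [ord_T3 hx] at hm
    apply conj_T3 hx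
    have h1 : orderOf (x ^ m) = 3 := by
      rw [Nat.Coprime.orderOf_pow (by rw [ord_T3 hx]; exact hm.symm), ord_T3 hx]
    rcases Nat.lt_or_ge 0 (m % 3) with h3 | h3
    · have h4 : x ^ m = x ^ (m % 3) := by
        rw [← ord_T3 hx, pow_mod_orderOf]
      rw [h4]
      have h5 : m % 3 = 1 ∨ m % 3 = 2 := by omega
      rcases h5 with h5 | h5
      · rw [h5, pow_one]; exact hx
      · rw [h5]
        have h6 : x ^ 2 = x⁻¹ := by
          rw [eq_inv_iff_mul_eq_one, ← pow_succ]
          have := pow_orderOf_eq_one x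
          rwa [ord_T3 hx] at this
        rw [h6]
        exact IsThreeCycle.inv hx
    · exfalso
      have h4 : 3 ∣ m := Nat.dvd_of_mod_eq_zero (by omega)
      have := Nat.dvd_gcd h4 (dvd_refl 3)
      rw [hm] at this
      omega)
  -- the average over the Sylow subgroup
  have hne : θ ≠ 1 := by
    intro h
    rw [h] at h5
    simp at h5
  have hchar : IsCharacter (Multiplicative (ZMod 3 × ZMod 3)) (θ ∘ fA) := isCharacter_comp fA (isIrr_isCharacter hθ)
  obtain ⟨k, hk⟩ := classInner_isNat hchar (isIrr_isCharacter (isIrr_one (G := Multiplicative (ZMod 3 × ZMod 3))))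
  rw [classInner_def] at hk
  have hval : ∀ v : Multiplicative (ZMod 3 × ZMod 3), (θ ∘ fA) v = if v = 1 then 5 else (a : ℂ) := by
    intro v
    split_ifs with hv
    · rw [hv, Function.comp, map_one, h5]
    · rw [← ha]
      rcases fA_type v hv with h | h
      · exact hT _ h
      · exact hQ _ h
  have hsum : ∑ v : Multiplicative (ZMod 3 × ZMod 3), (θ ∘ fA) v * (starRingEnd ℂ) ((1 : Multiplicative (ZMod 3 × ZMod 3) → ℂ) v) = 5 + 8 * (a : ℂ) := by
    have h1 : ∀ v : Multiplicative (ZMod 3 × ZMod 3), (θ ∘ fA) v * (starRingEnd ℂ) ((1 : Multiplicative (ZMod 3 × ZMod 3) → ℂ) v) =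
        if v = 1 then 5 else (a : ℂ) := fun v => by rw [hval]; simp
    simp only [h1]
    rw [← Finset.add_sum_erase _ _ (Finset.mem_univ (1 : Multiplicative (ZMod 3 × ZMod 3))), if_pos rfl,
      Finset.sum_congr rfl (g := fun _ => (a : ℂ)) (fun v hv => if_neg (Finset.ne_of_mem_erase hv)), Finset.sum_const,
      Finset.card_erase_of_mem (Finset.mem_univ _), Finset.card_univ, nsmul_eq_mul]
    have : Fintype.card (Multiplicative (ZMod 3 × ZMod 3)) = 9 := by decide
    rw [this]
    norm_num
  rw [hsum] at hk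
  have hc9 : (Nat.card (Multiplicative (ZMod 3 × ZMod 3)) : ℂ) = 9 := by
    have : Nat.card (Multiplicative (ZMod 3 × ZMod 3)) = 9 := by rw [Nat.card_eq_fintype_card]; decide
    rw [this]; norm_num
  rw [hc9] at hk
  have hk2 : (5 : ℂ) + 8 * a = 9 * k := by
    rw [← hk]; ring
  have hk3 : (5 : ℤ) + 8 * a = 9 * k := by exact_mod_cast hk2
  -- the bound
  have hle : a ≤ 5 := by
    obtain ⟨n, ρ, hρ, hρθ⟩ := hθ
    have h1 := Cfsg.Agent.Characters.Values.norm_character_le ρ x
    have h2 : ((Module.finrank ℂ (Fin n → ℂ) : ℕ) : ℂ) = 5 := by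
      rw [← Representation.char_one ρ, hρθ]; exact h5
    have h3 : Module.finrank ℂ (Fin n → ℂ) = 5 := by exact_mod_cast h2
    rw [h3, hρθ, ha] at h1
    have h4 : ‖(a : ℂ)‖ = |(a : ℝ)| := by
      rw [Complex.norm_intCast]
    rw [h4] at h1
    have h5 := (abs_le.1 h1).2
    have h6 : (a : ℝ) ≤ ((5 : ℕ) : ℝ) := h5
    exact_mod_cast h6
  have ha5 : a = 5 := by omega
  have h1 : θ x = θ 1 := by
    rw [ha, ha5, h5]; norm_num
  have h2 := eq_one_of_apply_eq hθ hne h1
  have h3 := ord_T3 hx
  rw [h2, orderOf_one] at h3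
  omega

end Cfsg.Agent.H546.AN6
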