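import Cfsg.Agent.H546.AN6.Top
import Cfsg.Agent.H546.AN6.Aut
import Cfsg.Agent.H459.Rad
import Cfsg.Agent.Characters.CCBasic

/-!
# S4766, piece E3: `n = 6` (helper546)

`e3_six` : `cd(G) = cd(A_6)` implies `G = A_6 × A`, `A` abelian; hypotheses: B10 and C3 for `n = 6`.
-/

set_option autoImplicit false

namespace Cfsg.Agent.H546.AN6

open Cfsg Cfsg.Agent.H704 Cfsg.Agent.H691.AN Cfsg.Agent.H672 Cfsg.Agent.H277.SK
open Cfsg.Agent.Characters Cfsg.Agent.Characters.Core
open scoped commutatorElement

universe u v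

/-! ### the character of degree 5 of the derived subgroup -/

theorem irr_restrict {G : Type u} [Group G] [Finite G] (hperf : commutator (commutator G) = ⊤) {χ : G → ℂ}
    (hχ : IsIrrCharacter G χ) (h5 : χ 1 = 5) : IsIrrCharacter (commutator G) (χ ∘ (commutator G).subtype) := by
  classical
  have hd : charDegree χ = 5 := charDegree_of_eq (by exact_mod_cast h5)
  obtain ⟨θ, hθ, hov⟩ := exists_under (f := (commutator G).subtype) hχ
  have hdvd := (charDegree_dvd_of_over (commutator G) hχ hθ hov).1
  rw [hd] at hdvd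
  rcases (Nat.dvd_prime Nat.prime_five).1 hdvd with hone | hfive
  · exfalso
    let _ := Fintype.ofFinite (commutator G)
    have hθ1 : θ 1 = 1 := (Cfsg.Agent.H686.CharKit.charDegree_eq_one_iff ⟨θ, hθ⟩).1 hone
    obtain ⟨f, rfl⟩ := Linear.exists_hom_of_isIrrCharacter hθ hθ1
    have hf : ∀ n : commutator G, f n = 1 := by
      intro n
      have h4 : commutator (commutator G) ≤ f.ker := Abelianization.commutator_subset_ker f
      exact h4 (by rw [hperf]; trivial)
    rw [over_iff] at hov
    have hsum : ∑ n : commutator G, χ n ≠ 0 := by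
      intro h0
      apply hov
      have h6 : ∀ n : commutator G, (χ ∘ (commutator G).subtype) n * (starRingEnd ℂ) ((f n : ℂˣ) : ℂ) = χ n := by
        intro n
        rw [hf, Units.val_one, map_one, mul_one]
        rfl
      unfold classInner
      simp only [h6]
      rw [h0, mul_zero]
    obtain ⟨χ', hχ'⟩ := Cfsg.Agent.Blocks.Deflate.exists_deflation (commutator G) χ hχ hsum
    have hcomm : ∀ a b : G ⧸ commutator G, a * b = b * a := by
      intro a b
      obtain ⟨a, rfl⟩ := QuotientGroup.mk_surjective a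
      obtain ⟨b, rfl⟩ := QuotientGroup.mk_surjective b
      rw [← QuotientGroup.mk_mul, ← QuotientGroup.mk_mul, QuotientGroup.eq]
      have : (a * b)⁻¹ * (b * a) = ⁅b⁻¹, a⁻¹⁆ := by
        rw [commutatorElement_def]; group
      rw [this]
      exact Subgroup.commutator_mem_commutator (Subgroup.mem_top _) (Subgroup.mem_top _)
    have h7 := CCBasic.irr_apply_one_of_comm hcomm χ'.2
    rw [hχ'] at h5
    have h8 : (χ' : G ⧸ commutator G → ℂ) 1 = 5 := h5
    rw [h7] at h8
    norm_num at h8
  · rw [eq_of_over_of_charDegree_eq hχ hθ hov (by rw [hd, hfive])]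
    exact hθ

theorem theta_ker {G : Type u} [Group G] [Finite G] (h : charDegrees G = D 6) (N : Subgroup G) [N.Normal]
    (hperf : commutator N = ⊤) (β : N →* An 6) (hβ : Function.Surjective β) {θ : N → ℂ} (hθ : IsIrrCharacter N θ)
    (h5 : θ 1 = 5) (m : N) (hm : β m = 1) : θ m = θ 1 := by
  classical
  have hFN := Fintype.ofFinite N
  have hfin : Finite (IrrCharacter N) := finite_irr
  have hFI : Fintype (IrrCharacter N) := Fintype.ofFinite _
  have hd : charDegree θ = 5 := charDegree_of_eq (by exact_mod_cast h5)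
  obtain ⟨M, hM⟩ : ∃ M : Subgroup N, M = β.ker := ⟨_, rfl⟩
  have hMn : M.Normal := by rw [hM]; infer_instance
  have hFM := Fintype.ofFinite M
  obtain ⟨φ, hφ, hov⟩ := exists_under (f := M.subtype) hθ
  have hdvd := (charDegree_dvd_of_over M hθ hφ hov).1
  rw [hd] at hdvd
  rcases (Nat.dvd_prime Nat.prime_five).1 hdvd with hone | hfive
  · -- `φ` is linear
    have hφ1 : φ 1 = 1 := (Cfsg.Agent.H686.CharKit.charDegree_eq_one_iff ⟨φ, hφ⟩).1 hone
    have hidx := index_mul_charDegree_dvd M hθ hφ hov
    rw [hd, hone, mul_one] at hidx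
    have hMT : M ≤ inertia M φ := le_inertia (isIrr_isClassFunction hφ)
    have hT : inertia M φ = ⊤ := by
      by_contra hne
      have h1 : ((inertia M φ).map β).index = (inertia M φ).index := by
        rw [Subgroup.index_map, MonoidHom.range_eq_top.2 hβ, Subgroup.index_top, mul_one, ← hM, sup_eq_left.2 hMT]
      have h2 : (inertia M φ).map β ≠ ⊤ := by
        intro h3
        rw [h3, Subgroup.index_top] at h1
        exact hne (Subgroup.index_eq_one.1 h1.symm)
      have h3 := index_ge h2
      have h4 := Nat.le_of_dvd (by norm_num) hidx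
      omega
    have hinv : ∀ (g : N) (x : M), φ ⟨g * x * g⁻¹, hMn.conj_mem (x : N) x.2 g⟩ = φ x := by
      intro g x
      have hg : g ∈ inertia M φ := by rw [hT]; trivial
      exact mem_inertia_iff.1 hg x
    obtain ⟨e, he1, he2, he3⟩ := Cfsg.Agent.H669.OverCount.sum_sq_over M hφ hinv
    have hidx : M.index = 360 := by
      rw [hM, Subgroup.index_ker, MonoidHom.range_eq_top.2 hβ, ← card_six]
      exact Nat.card_congr Subgroup.topEquiv.toEquiv
    have hmM : m ∈ M := by rw [hM]; exact hm
    have hres : ∀ ψ : IrrCharacter N, e ψ ≠ 0 → ∀ x : M, (ψ : N → ℂ) x = e ψ * φ x := by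
      intro ψ hψ x
      have := CharDeep.CliffordCorr.restrict_eq_smul_of_invariant M ψ.2 hφ
        (fun g => funext fun n => hinv g n) (by rw [he1]; exact_mod_cast hψ)
      have h1 := congrFun this x
      rw [he1] at h1
      simpa using h1
    have hθe : e ⟨θ, hθ⟩ ≠ 0 := by
      rw [over_iff] at hov
      intro h0
      apply hov
      have := he1 ⟨θ, hθ⟩
      rw [h0, Nat.cast_zero] at this
      exact this
    by_contra hcon
    have hφm : φ ⟨m, hmM⟩ ≠ 1 := by
      intro h1
      apply hcon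
      have e1 := hres ⟨θ, hθ⟩ hθe ⟨m, hmM⟩
      have e2 := hres ⟨θ, hθ⟩ hθe 1
      rw [h1] at e1
      rw [hφ1] at e2
      exact e1.trans e2.symm
    obtain ⟨ℓ, hℓ⟩ := Linear.exists_hom_of_isIrrCharacter hφ hφ1
    have hnorm : ‖φ ⟨m, hmM⟩‖ = 1 := by
      rw [hℓ]
      refine Complex.norm_eq_one_of_pow_eq_one (n := Nat.card M) ?_ Nat.card_pos.ne'
      show ((ℓ ⟨m, hmM⟩ : ℂˣ) : ℂ) ^ Nat.card M = 1
      rw [← Units.val_pow_eq_pow_val, ← map_pow, pow_card_eq_one', map_one, Units.val_one]
    have hpow : ∀ ψ : IrrCharacter N, e ψ ≠ 0 → φ ⟨m, hmM⟩ ^ (e ψ) = 1 := by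
      intro ψ hψ
      have hde := he2 ψ hψ
      rw [hone, mul_one] at hde
      have hval := hres ψ hψ ⟨m, hmM⟩
      have h1 := coe_charDegree ψ.2
      obtain ⟨n, ρ, hρ, hρψ⟩ := ψ.2
      have h2 : (ψ : N → ℂ) 1 = n := by rw [← hρψ, Representation.char_one, Module.finrank_fin_fun]
      have h3 : e ψ = n := by
        rw [h2, hde] at h1
        exact_mod_cast h1
      rw [h3] at hval ⊢
      have hn0 : (n : ℂ) ≠ 0 := by
        rw [← h3]; exact_mod_cast hψ
      obtain ⟨w, hw⟩ := (Values.norm_character_eq_iff ρ m).1 (by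
        rw [hρψ, hval, norm_mul, hnorm, mul_one, Module.finrank_fin_fun, Complex.norm_natCast])
      have h4 : ρ.character m = w * n := by
        show LinearMap.trace ℂ _ (ρ m) = _
        rw [hw, map_smul]
        have : (LinearMap.trace ℂ (Fin n → ℂ)) LinearMap.id = n := by
          rw [LinearMap.trace_id, Module.finrank_fin_fun]
        rw [this, smul_eq_mul]
      have h5 : w = φ ⟨m, hmM⟩ := by
        rw [hρψ, hval, mul_comm] at h4
        exact (mul_right_cancel₀ hn0 h4).symm
      rw [← h5]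
      exact pow_eq_one_of_smul ρ (by rw [hperf]; trivial) hw
    have hθe5 : e ⟨θ, hθ⟩ = 5 := by
      have := he2 ⟨θ, hθ⟩ hθe
      rw [hone, mul_one] at this
      rw [← this]
      exact hd
    have hord : orderOf (φ ⟨m, hmM⟩) = 5 := by
      have := Fact.mk Nat.prime_five
      refine orderOf_eq_prime ?_ hφm
      have := hpow ⟨θ, hθ⟩ hθe
      rwa [hθe5] at this
    have h25 : 25 ∣ ∑ ψ : IrrCharacter N, e ψ ^ 2 := by
      refine Finset.dvd_sum fun ψ _ => ?_
      by_cases h0 : e ψ = 0
      · rw [h0]; norm_num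
      · have h1 : 5 ∣ e ψ := by
          rw [← hord]
          exact orderOf_dvd_of_pow_eq_one (hpow ψ h0)
        exact pow_dvd_pow_of_dvd h1 2
    rw [he3, hidx] at h25
    omega
  · exfalso
    have h1 := eq_of_over_of_charDegree_eq hθ hφ hov (by rw [hd, hfive])
    have h2 : IsIrrCharacter M (fun k : M => θ k) := by
      have : (fun k : M => θ k) = φ := h1
      rw [this]; exact hφ
    have h3 := Cfsg.Agent.H681.DegBasic.gallagher β hβ M (fun k hk => by rw [hM] at hk; exact hk) hθ h2
      (n := 5) (b := 9) (by exact_mod_cast h5) nine_mem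
    obtain ⟨d, hd', hdd, -⟩ := Cfsg.Agent.H424.DegTools.clifford_up N h3
    rw [h] at hd'
    rcases D6_cases hd' with rfl | rfl | rfl | rfl | rfl <;> omega

theorem exists_defl {A : Type u} {B : Type v} [Group A] [Finite A] [Group B] (f : A →* B)
    (hf : Function.Surjective f) {χ : A → ℂ} (hχ : IsIrrCharacter A χ) (h : ∀ k, f k = 1 → χ k = χ 1) :
    ∃ χ' : B → ℂ, IsIrrCharacter B χ' ∧ ∀ a, χ a = χ' (f a) := by
  classical
  have := Fintype.ofFinite f.ker
  obtain ⟨χ', h'⟩ := Cfsg.Agent.Blocks.Deflate.exists_deflation f.ker χ hχ (by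
    have h1 : ∀ n : f.ker, χ n = χ 1 := fun n => h n (MonoidHom.mem_ker.1 n.2)
    rw [Finset.sum_congr rfl fun n _ => h1 n, Finset.sum_const, nsmul_eq_mul]
    have h4 : 0 < (Finset.univ : Finset f.ker).card := Finset.card_pos.2 ⟨1, Finset.mem_univ _⟩
    exact mul_ne_zero (Nat.cast_ne_zero.2 h4.ne') (isIrr_apply_one_ne_zero hχ))
  let e := QuotientGroup.quotientKerEquivOfSurjective f hf
  refine ⟨(χ' : A ⧸ f.ker → ℂ) ∘ e.symm, isIrr_comp e.symm.toMonoidHom e.symm.surjective χ'.2, fun a => ?_⟩
  have h2 : e.symm (f a) = (a : A ⧸ f.ker) := by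
    rw [MulEquiv.symm_apply_eq]
    rfl
  show χ a = (χ' : A ⧸ f.ker → ℂ) (e.symm (f a))
  rw [h2, h']
  rfl

/-- every element of `G` preserves the 3-cycles of `A_6` -/
theorem pr_all {G : Type u} [Group G] [Finite G] (h : charDegrees G = D 6)
    (hperf : commutator (commutator G) = ⊤) {α : G →* MulAut (An 6)} {β : commutator G →* An 6}
    (hs : Function.Surjective β) (hβ : ∀ n : commutator G, α n = MulAut.conj (β n)) (g : G) : Pr (α g) := by
  have h5 : 5 ∈ charDegrees G := by rw [h]; exact five_mem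
  obtain ⟨χ, hχ, hχ5⟩ := Cfsg.Agent.H424.DegTools.mem_charDegrees.1 h5
  have hχ5' : χ 1 = 5 := by rw [hχ5]; norm_num
  have hθ := irr_restrict hperf hχ hχ5'
  obtain ⟨θ, hθ', hθβ⟩ := exists_defl β hs hθ (fun k hk => theta_ker h (commutator G) hperf β hs hθ hχ5' k hk)
  have hθ5 : θ 1 = 5 := by
    have := hθβ 1
    rw [map_one] at this
    rw [← this]
    exact hχ5'
  have hinv : ∀ x : An 6, θ (α g x) = θ x := by
    intro x
    obtain ⟨n, rfl⟩ := hs x
    have hn' : g * n * g⁻¹ ∈ commutator G := (inferInstance : (commutator G).Normal).conj_mem n n.2 g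
    rw [← beta_conj hβ g n ⟨_, hn'⟩ rfl, ← hθβ, ← hθβ]
    exact isIrr_isClassFunction hχ n g
  intro x hx
  rcases map_T3 (α := α g) hx with h1 | h1
  · exact h1
  · exact absurd (hinv x).symm (theta_ne hθ' hθ5 hx h1)

/-- a finite commutative group has a copy in `Type` -/
theorem exists_copy (A : Type u) [CommGroup A] [Finite A] : ∃ (B : Type) (_ : CommGroup B), Nonempty (A ≃* B) := by
  obtain ⟨m, ⟨ε⟩⟩ := Finite.exists_equiv_fin A
  let ε' : {x : Fin m // True} ≃ A := (Equiv.subtypeUnivEquiv fun _ => trivial).trans ε.symm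
  let _ : CommGroup {x : Fin m // True} := ε'.commGroup
  exact ⟨{x : Fin m // True}, inferInstance,
    ⟨{ ε'.symm with
        map_mul' := fun a b => by
          show ε'.symm (a * b) = ε'.symm (ε' (ε'.symm a) * ε' (ε'.symm b))
          rw [ε'.apply_symm_apply, ε'.apply_symm_apply] }⟩⟩

/-- the end: `G = A_6 × A` -/
theorem final {G : Type u} [Group G] [Finite G] (f : G →* An 6)
    (hs : ∀ x : An 6, ∃ n ∈ commutator G, f n = x) (hbot : commutator G ⊓ f.ker = ⊥) :
    ∃ (A : Type) (_ : CommGroup A), Nonempty (G ≃* (An 6 × A)) := by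
  let F : G →* An 6 × Abelianization G := f.prod Abelianization.of
  have hF : Function.Bijective F := by
    constructor
    · rw [injective_iff_map_eq_one]
      intro g hg
      have h1 : f g = 1 := congrArg Prod.fst hg
      have h2 : Abelianization.of g = 1 := congrArg Prod.snd hg
      have h3 : g ∈ commutator G := by
        have : g ∈ (Abelianization.of : G →* Abelianization G).ker := h2
        rwa [Abelianization.ker_of] at this
      have h4 : g ∈ commutator G ⊓ f.ker := ⟨h3, h1⟩
      rw [hbot] at h4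
      exact Subgroup.mem_bot.1 h4
    · rintro ⟨x, y⟩
      obtain ⟨g, rfl⟩ := QuotientGroup.mk_surjective y
      obtain ⟨n, hn, hnx⟩ := hs ((f g)⁻¹ * x)
      refine ⟨g * n, Prod.ext ?_ ?_⟩
      · show f (g * n) = x
        rw [map_mul, hnx, mul_inv_cancel_left]
      · show Abelianization.of (g * n) = _
        have h1 : Abelianization.of n = (1 : Abelianization G) := by
          have : n ∈ (Abelianization.of : G →* Abelianization G).ker := by rwa [Abelianization.ker_of]
          exact this
        rw [map_mul, h1, mul_one]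
        rfl
  have hfin : Finite (Abelianization G) := Quotient.finite _
  obtain ⟨B, iB, ⟨ε⟩⟩ := exists_copy (Abelianization G)
  exact ⟨B, iB, ⟨(MulEquiv.ofBijective F hF).trans (MulEquiv.prodCongr (MulEquiv.refl _) ε)⟩⟩

/-- **E3** -/
theorem e3_six
    (hB10 : ∀ {G : Type u} [Group G] [Finite G], charDegrees G = D 6 →
      ⁅commutator G, commutator G⁆ = commutator G)
    (hC3 : ∀ {Y : Type u} [Group Y] [Finite Y] [Nontrivial Y], charDegrees Y ⊆ D 6 →
      (∀ K : Subgroup Y, K.Normal → Group.IsSolvable K → K = ⊥) →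
      ∃ S : Subgroup Y, S.Normal ∧ Nonempty (S ≃* An 6) ∧ Subgroup.centralizer (S : Set Y) = ⊥)
    {G : Type u} [Group G] [Finite G] (h : charDegrees G = D 6) :
    ∃ (A : Type) (_ : CommGroup A), Nonempty (G ≃* (An 6 × A)) := by
  have hperf0 := hB10 h
  have hperf : commutator (commutator G) = ⊤ := by
    have h1 : (commutator (commutator G)).map (commutator G).subtype = ⁅commutator G, commutator G⁆ :=
      Subgroup.map_subtype_commutator (commutator G)
    rw [hperf0] at h1
    rw [eq_top_iff]
    intro x _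
    have h2 : (x : G) ∈ (commutator (commutator G)).map (commutator G).subtype := by rw [h1]; exact x.2
    obtain ⟨y, hy, hyx⟩ := h2
    have : y = x := Subtype.ext hyx
    rwa [← this]
  -- the radical
  obtain ⟨R, hR⟩ : ∃ R : Subgroup G, R = solvableRadical G := ⟨_, rfl⟩
  have hRn : R.Normal := by rw [hR]; exact Cfsg.Agent.H459.Rad.rad_normal G
  have hRs : Group.IsSolvable R := by rw [hR]; exact Cfsg.Agent.H459.Rad.rad_solvable G
  have hnt : Nontrivial (G ⧸ R) := by
    rw [← not_subsingleton_iff_nontrivial]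
    intro hsub
    have hRtop : R = ⊤ := QuotientGroup.subsingleton_iff.1 hsub
    have hsG : Group.IsSolvable G := by
      rw [hR] at hRtop
      exact Cfsg.Agent.H459.Rad.rad_eq_top_iff.1 hRtop
    have h1 : commutator G = ⊥ := eq_bot_of_perfect_solvable (commutator G) inferInstance hperf0
    have h5 : 5 ∈ charDegrees G := by rw [h]; exact five_mem
    obtain ⟨χ, hχ, hχ5⟩ := Cfsg.Agent.H424.DegTools.mem_charDegrees.1 h5
    have hcomm : ∀ a b : G, a * b = b * a := by
      intro a b
      have h2 : ⁅a, b⁆ ∈ commutator G := Subgroup.commutator_mem_commutator (Subgroup.mem_top _) (Subgroup.mem_top _)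
      rw [h1, Subgroup.mem_bot, commutatorElement_eq_one_iff_mul_comm] at h2
      exact h2
    have h7 := CCBasic.irr_apply_one_of_comm hcomm hχ
    rw [hχ5] at h7
    norm_num at h7
  obtain ⟨S, hSn, ⟨e⟩, hSc⟩ := hC3 (Y := G ⧸ R)
    ((Cfsg.Agent.H424.DegTools.charDegrees_of_surjective (QuotientGroup.mk' R) (QuotientGroup.mk'_surjective R)).trans h.le)
    (fun K hK hKs => by
      subst hR
      have h1 : K ≤ solvableRadical (G ⧸ solvableRadical G) := Cfsg.Agent.H459.Rad.le_rad hK hKs
      rw [Cfsg.Agent.H459.Rad.rad_quotient] at h1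
      exact le_bot_iff.1 h1)
  -- the action on `A_6`
  let ψ : G ⧸ R →* MulAut (An 6) := (MulAut.congr e).toMonoidHom.comp (MulAut.conjNormal : G ⧸ R →* MulAut S)
  have hψ : ∀ (y : G ⧸ R) (x : An 6), ψ y x = e ((MulAut.conjNormal y : MulAut S) (e.symm x)) := fun y x => rfl
  have hψS : ∀ s : S, ψ s = MulAut.conj (e s) := by
    intro s
    apply MulEquiv.ext
    intro x
    rw [hψ, MulAut.conj_apply]
    have h1 : (MulAut.conjNormal (s : G ⧸ R) : MulAut S) (e.symm x) = s * e.symm x * s⁻¹ := by
      apply Subtype.ext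
      rw [MulAut.conjNormal_apply]
      rfl
    rw [h1, map_mul, map_mul, map_inv, e.apply_symm_apply]
  have hψker : ∀ y, ψ y = 1 → y = 1 := by
    intro y hy
    have h1 : y ∈ Subgroup.centralizer (S : Set (G ⧸ R)) := by
      rw [Subgroup.mem_centralizer_iff]
      intro s hs
      have h2 := DFunLike.congr_fun hy (e ⟨s, hs⟩)
      rw [hψ, e.symm_apply_apply] at h2
      have h3 : (MulAut.conjNormal y : MulAut S) ⟨s, hs⟩ = ⟨s, hs⟩ := e.injective h2
      have h4 := congrArg Subtype.val h3
      rw [MulAut.conjNormal_apply] at h4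
      have h5 : y * s * y⁻¹ = s := h4
      calc s * y = (y * s * y⁻¹) * y := by rw [h5]
        _ = y * s := by group
    rw [hSc] at h1
    exact Subgroup.mem_bot.1 h1
  obtain ⟨α, hα⟩ : ∃ α : G →* MulAut (An 6), α = ψ.comp (QuotientGroup.mk' R) := ⟨_, rfl⟩
  have hαker : ∀ g, α g = 1 ↔ g ∈ R := by
    intro g
    rw [hα]
    constructor
    · intro hg
      exact (QuotientGroup.eq_one_iff g).1 (hψker _ hg)
    · intro hg
      show ψ (g : G ⧸ R) = 1
      rw [(QuotientGroup.eq_one_iff g).2 hg, map_one]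
  have hαs : ∀ x : An 6, ∃ g : G, α g = MulAut.conj x := by
    intro x
    obtain ⟨g, hg⟩ := QuotientGroup.mk'_surjective R (e.symm x : S)
    refine ⟨g, ?_⟩
    rw [hα]
    show ψ (QuotientGroup.mk' R g) = _
    rw [hg, hψS, e.apply_symm_apply]
  obtain ⟨β, hβs, hβ⟩ := exists_beta α hαs hperf
  have hpr := pr_all h hperf hβs hβ
  rcases exists_f hαs hpr with ⟨γ, hγ⟩ | ⟨f, hfs, hf⟩
  · exfalso
    have h16 := Cfsg.Agent.H424.DegTools.charDegrees_of_surjective γ hγ sixteen_mem
    rw [h] at h16
    rcases D6_cases h16 with h1 | h1 | h1 | h1 | h1 <;> omega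
  · have hker : f.ker = R := by
      ext g
      rw [MonoidHom.mem_ker, ← hαker, hf]
      constructor
      · intro h1; rw [h1, map_one]
      · intro h1; exact conj_inj (by rw [h1, map_one])
    have hfβ : ∀ n : commutator G, f n = β n := fun n => conj_inj (by rw [← hf, hβ])
    have hfN : ∀ x : An 6, ∃ n ∈ commutator G, f n = x := by
      intro x
      obtain ⟨n, rfl⟩ := hβs x
      exact ⟨n, n.2, hfβ n⟩
    refine final f hfN ?_
    refine inf_eq_bot h.le f hfs (commutator G) hperf0 (fun g => hfN (f g)) ?_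
    have : Group.IsSolvable f.ker := by rw [hker]; exact hRs
    exact Group.isSolvable_of_isSolvable_injective (f := Subgroup.inclusion (inf_le_right : commutator G ⊓ f.ker ≤ f.ker))
      (Subgroup.inclusion_injective _)

end Cfsg.Agent.H546.AN6
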