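import Cfsg.Agent.H546.AN6.Base
import Cfsg.Agent.H669.OverCount
import Cfsg.Agent.H7.AN.Inert
import Cfsg.Agent.Blocks.ClassScalar
import Cfsg.Agent.H424.DegTools

/-!
# S4766, piece E3 (`n = 6`): the solvable radical of the perfect kernel (helper546)

`top_central`, `top_min`, `inf_eq_bot` : `cd(G) ⊆ D 6`, `f : G → A_6` surjective, `N` perfect, `f(N) = A_6`; then
`N ∩ ker f = 1` if `ker f` is solvable.
-/

set_option autoImplicit false

namespace Cfsg.Agent.H546.AN6

open Cfsg Cfsg.Agent.H704 Cfsg.Agent.H691.AN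
open Cfsg.Agent.Characters Cfsg.Agent.Characters.Core
open scoped commutatorElement

universe u

section general

variable {L : Type*} [Group L]

theorem pow_eq_one_of_smul {n : ℕ} (ρ : Representation ℂ L (Fin n → ℂ)) {c : L} (hc : c ∈ commutator L) {ω : ℂ}
    (hω : ρ c = ω • 1) : ω ^ n = 1 := by
  let δ : L →* ℂˣ := ((LinearMap.det : Module.End ℂ (Fin n → ℂ) →* ℂ).comp ρ).toHomUnits
  have h3 : δ c = 1 := by
    have h4 : commutator L ≤ δ.ker := Abelianization.commutator_subset_ker δ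
    exact h4 hc
  have h4 : (δ c : ℂ) = LinearMap.det (ρ c) := rfl
  rw [h3, hω, LinearMap.det_smul, Module.finrank_fin_fun, map_one, mul_one, Units.val_one] at h4
  exact h4.symm

theorem dvd_of_central {c : L} (hc : ∀ x : L, c * x = x * c) (hcc : c ∈ commutator L)
    {p : ℕ} (hp : p.Prime) (hcp : c ^ p = 1) {θ : L → ℂ} (hθ : IsIrrCharacter L θ) (h : θ c ≠ θ 1) :
    p ∣ charDegree θ := by
  have hdeg := Cfsg.Agent.Blocks.Basic.irr_one_eq_charDegree hθ
  obtain ⟨n, ρ, hρ, rfl⟩ := hθ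
  obtain ⟨ω, hω⟩ := Cfsg.Agent.Blocks.ClassScalar.exists_smul_of_commute ρ hρ (ρ c) (fun g => by
    rw [← map_mul, ← map_mul, hc])
  have h1 : ρ.character 1 = n := by
    rw [Representation.char_one, Module.finrank_fin_fun]
  have h2 : ρ.character c = ω * n := by
    show LinearMap.trace ℂ _ (ρ c) = _
    rw [hω, map_smul, LinearMap.trace_one, Module.finrank_fin_fun, smul_eq_mul]
  have hn : charDegree ρ.character = n := by
    rw [h1] at hdeg
    exact_mod_cast hdeg.symm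
  have hω1 : ω ≠ 1 := by
    rintro rfl
    apply h
    rw [h1, h2, one_mul]
  have hnpos : n ≠ 0 := by
    rintro rfl
    apply h
    rw [h1, h2]; simp
  have hωp : ω ^ p = 1 := by
    have h3 : (ρ c) ^ p = 1 := by rw [← map_pow, hcp, map_one]
    rw [hω, smul_pow, one_pow] at h3
    have h4 := congrArg (LinearMap.trace ℂ (Fin n → ℂ)) h3
    rw [map_smul, LinearMap.trace_one, Module.finrank_fin_fun, smul_eq_mul] at h4
    have h5 : (n : ℂ) ≠ 0 := Nat.cast_ne_zero.2 hnpos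
    exact mul_right_cancel₀ h5 (by rw [h4, one_mul])
  have hdet : ω ^ n = 1 := pow_eq_one_of_smul ρ hcc hω
  have hord : orderOf ω = p := by
    have := Fact.mk hp
    exact orderOf_eq_prime hωp hω1
  rw [hn, ← hord]
  exact orderOf_dvd_of_pow_eq_one hdet

end general

/-! ### arithmetic -/

theorem sum_two {ι : Type*} (s : Finset ι) (e : ι → ℕ) {x y : ℕ} (h : ∀ i ∈ s, e i = x ∨ e i = y) :
    ∃ a b : ℕ, ∑ i ∈ s, e i ^ 2 = x ^ 2 * a + y ^ 2 * b := by
  classical
  induction s using Finset.induction_on with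
  | empty => exact ⟨0, 0, by simp⟩
  | insert i s hi ih =>
    obtain ⟨a, b, hab⟩ := ih (fun j hj => h j (Finset.mem_insert_of_mem hj))
    rw [Finset.sum_insert hi, hab]
    rcases h i (Finset.mem_insert_self i s) with h1 | h1
    · exact ⟨a + 1, b, by rw [h1]; ring⟩
    · exact ⟨a, b + 1, by rw [h1]; ring⟩

theorem arith {ι : Type*} (t : Finset ι) (e : ι → ℕ) {f : ℕ} (hf : 0 < f) {p : ℕ} (hp : p.Prime)
    (h : ∀ i ∈ t, (e i * f = 1 ∨ e i * f = 5 ∨ e i * f = 8 ∨ e i * f = 9 ∨ e i * f = 10) ∧ p ∣ e i * f)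
    (hcard : t.card ≤ 7) (hsum : ∑ i ∈ t, e i ^ 2 = 360) : False := by
  have hf1 : f = 1 := by
    by_contra hf1
    have h1 : ∀ i ∈ t, e i ^ 2 ≤ 25 := by
      intro i hi
      have h2 : e i * 2 ≤ e i * f := Nat.mul_le_mul_left _ (by omega)
      have h3 : e i ≤ 5 := by
        rcases (h i hi).1 with h4 | h4 | h4 | h4 | h4 <;> omega
      calc e i ^ 2 ≤ 5 ^ 2 := Nat.pow_le_pow_left h3 2
        _ = 25 := by norm_num
    have h2 := Finset.sum_le_card_nsmul t (fun i => e i ^ 2) 25 h1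
    rw [hsum, smul_eq_mul] at h2
    omega
  subst hf1
  simp only [mul_one] at h
  have hp1 : p ≠ 1 := hp.ne_one
  by_cases h2 : p = 2
  · subst h2
    obtain ⟨a, b, hab⟩ := sum_two (x := 8) (y := 10) t e (fun i hi => by
      obtain ⟨h3, h4⟩ := h i hi
      rcases h3 with h3 | h3 | h3 | h3 | h3 <;> rw [h3] at h4 ⊢ <;> revert h4 <;> decide)
    omega
  by_cases h3 : p = 3
  · subst h3
    obtain ⟨a, b, hab⟩ := sum_two (x := 9) (y := 9) t e (fun i hi => by
      obtain ⟨h3, h4⟩ := h i hi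
      rcases h3 with h3 | h3 | h3 | h3 | h3 <;> rw [h3] at h4 ⊢ <;> revert h4 <;> decide)
    omega
  by_cases h5 : p = 5
  · subst h5
    obtain ⟨a, b, hab⟩ := sum_two (x := 5) (y := 10) t e (fun i hi => by
      obtain ⟨h3, h4⟩ := h i hi
      rcases h3 with h3 | h3 | h3 | h3 | h3 <;> rw [h3] at h4 ⊢ <;> revert h4 <;> decide)
    omega
  have ht : t = ∅ := by
    rw [Finset.eq_empty_iff_forall_notMem]
    intro i hi
    obtain ⟨h6, h7⟩ := h i hi
    rcases h6 with h6 | h6 | h6 | h6 | h6 <;> rw [h6] at h7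
    · exact hp1 (Nat.dvd_one.1 h7)
    · exact h5 ((Nat.prime_dvd_prime_iff_eq hp Nat.prime_five).1 h7)
    · exact h2 ((Nat.prime_dvd_prime_iff_eq hp Nat.prime_two).1 (hp.dvd_of_dvd_pow (show p ∣ 2 ^ 3 from h7)))
    · exact h3 ((Nat.prime_dvd_prime_iff_eq hp Nat.prime_three).1 (hp.dvd_of_dvd_pow (show p ∣ 3 ^ 2 from h7)))
    · rcases (hp.dvd_mul).1 (show p ∣ 2 * 5 from h7) with h8 | h8
      · exact h2 ((Nat.prime_dvd_prime_iff_eq hp Nat.prime_two).1 h8)
      · exact h5 ((Nat.prime_dvd_prime_iff_eq hp Nat.prime_five).1 h8)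
  rw [ht, Finset.sum_empty] at hsum
  omega

/-! ### the central case -/

theorem top_central {G : Type u} [Group G] [Finite G] (h : charDegrees G ⊆ D 6) (f : G →* An 6)
    (hf : Function.Surjective f) (N : Subgroup G) [hN : N.Normal] (hperf : ⁅N, N⁆ = N)
    (hfN : ∀ g : G, ∃ n ∈ N, f n = f g)
    (hcen : N ⊓ f.ker ≤ Subgroup.centralizer (N : Set G)) (hne : N ⊓ f.ker ≠ ⊥) : False := by
  classical
  have hFG := Fintype.ofFinite G
  set R : Subgroup G := f.ker with hR
  have hFR : Fintype R := Fintype.ofFinite R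
  have : Finite (IrrCharacter G) := finite_irr
  have hFI : Fintype (IrrCharacter G) := Fintype.ofFinite _
  -- `N` centralizes `R`
  have hle : ⁅N, R⁆ ≤ N ⊓ R := le_inf (Subgroup.commutator_le_left N R) (Subgroup.commutator_le_right N R)
  have h1 : ⁅⁅N, R⁆, N⁆ = ⊥ := by
    rw [Subgroup.commutator_eq_bot_iff_le_centralizer]
    exact hle.trans hcen
  have h2 : ⁅⁅R, N⁆, N⁆ = ⊥ := by rw [Subgroup.commutator_comm R N]; exact h1
  have h3 : ⁅N, R⁆ = ⊥ := by
    have := Subgroup.commutator_commutator_eq_bot_of_rotate h1 h2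
    rwa [hperf] at this
  have hNR : ∀ n ∈ N, ∀ r ∈ R, n * r = r * n := by
    intro n hn r hr
    have h4 : ⁅n, r⁆ ∈ ⁅N, R⁆ := Subgroup.commutator_mem_commutator hn hr
    rw [h3, Subgroup.mem_bot, commutatorElement_eq_one_iff_mul_comm] at h4
    exact h4
  have hG : ∀ g : G, ∃ n ∈ N, ∃ r ∈ R, g = n * r := by
    intro g
    obtain ⟨n, hn, hfn⟩ := hfN g
    refine ⟨n, hn, n⁻¹ * g, ?_, by group⟩
    rw [hR, MonoidHom.mem_ker, map_mul, map_inv, hfn, inv_mul_cancel]
  -- an element of prime order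
  obtain ⟨m, hm⟩ : ∃ m : (N ⊓ R : Subgroup G), m ≠ 1 := by
    have : Nontrivial (N ⊓ R : Subgroup G) := (Subgroup.nontrivial_iff_ne_bot _).2 hne
    exact exists_ne 1
  obtain ⟨p, hp, hpd⟩ : ∃ p : ℕ, p.Prime ∧ p ∣ Nat.card (N ⊓ R : Subgroup G) := by
    refine Nat.exists_prime_and_dvd ?_
    have : Nontrivial (N ⊓ R : Subgroup G) := ⟨⟨m, 1, hm⟩⟩
    exact (Finite.one_lt_card (α := (N ⊓ R : Subgroup G))).ne'
  have hpF := Fact.mk hp
  obtain ⟨⟨c, hcN, hcR⟩, hcp⟩ := exists_prime_orderOf_dvd_card' p hpd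
  have hcp' : c ^ p = 1 := by
    have := pow_orderOf_eq_one (⟨c, hcN, hcR⟩ : (N ⊓ R : Subgroup G))
    rw [hcp] at this
    exact congrArg Subtype.val this
  have hc1 : c ≠ 1 := by
    rintro rfl
    rw [show (⟨1, hcN, hcR⟩ : (N ⊓ R : Subgroup G)) = 1 from rfl, orderOf_one] at hcp
    exact hp.ne_one hcp.symm
  have hcc : ∀ x : G, c * x = x * c := by
    intro x
    obtain ⟨n, hn, r, hr, rfl⟩ := hG x
    have e1 : n * c = c * n := hNR n hn c hcR
    have e2 : c * r = r * c := hNR c hcN r hr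
    rw [← mul_assoc, ← e1, mul_assoc, e2, mul_assoc]
  have hcm : c ∈ commutator G := by
    have : N ≤ commutator G := by
      rw [← hperf]
      exact Subgroup.commutator_mono le_top le_top
    exact this hcN
  -- a character of `R`
  obtain ⟨φ, hφ⟩ : ∃ φ : IrrCharacter R, (φ : R → ℂ) ⟨c, hcR⟩ ≠ (φ : R → ℂ) 1 := by
    by_contra hcon
    push Not at hcon
    have h4 := Cfsg.Agent.H686.CharKit.mem_of_forall_chKer (⊥ : Subgroup R) (g := ⟨c, hcR⟩) (fun χ _ => hcon χ)
    exact hc1 (congrArg Subtype.val (Subgroup.mem_bot.1 h4))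
  have hcl := isIrr_isClassFunction φ.2
  have hinv : ∀ (g : G) (x : R), (φ : R → ℂ) ⟨g * x * g⁻¹, (inferInstance : R.Normal).conj_mem (x : G) x.2 g⟩ = (φ : R → ℂ) x := by
    intro g x
    obtain ⟨n, hn, r, hr, rfl⟩ := hG g
    have e1 : n * r * (x : G) * (n * r)⁻¹ = r * x * r⁻¹ := by
      have h5 : r * (x : G) * r⁻¹ ∈ R := (inferInstance : R.Normal).conj_mem (x : G) x.2 r
      have h6 := hNR n hn _ h5
      calc n * r * (x : G) * (n * r)⁻¹ = n * (r * x * r⁻¹) * n⁻¹ := by group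
        _ = r * x * r⁻¹ := by rw [h6]; group
    have e2 : (⟨n * r * x * (n * r)⁻¹, (inferInstance : R.Normal).conj_mem (x : G) x.2 (n * r)⟩ : R) =
        ⟨r, hr⟩ * x * ⟨r, hr⟩⁻¹ := Subtype.ext e1
    rw [e2]
    exact hcl x ⟨r, hr⟩
  obtain ⟨e, he1, he2, he3⟩ := Cfsg.Agent.H669.OverCount.sum_sq_over R φ.2 hinv
  have hidx : R.index = 360 := by
    rw [hR, Subgroup.index_ker, MonoidHom.range_eq_top.2 hf, ← card_six]
    exact Nat.card_congr Subgroup.topEquiv.toEquiv
  have hclass : Nat.card (ConjClasses (G ⧸ R)) ≤ 7 := by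
    have e0 : G ⧸ R ≃* An 6 := QuotientGroup.quotientKerEquivOfSurjective f hf
    have h4 : Nat.card (ConjClasses (G ⧸ R)) ≤ Nat.card (ConjClasses (An 6)) :=
      Cfsg.Agent.H7.AN.card_conj_le e0.symm.toMonoidHom e0.symm.surjective
    exact h4.trans Cfsg.Agent.H525.AltK.alt_six
  refine arith (Finset.univ.filter fun χ : IrrCharacter G => e χ ≠ 0) e
    (Cfsg.Agent.H672.charDegree_pos φ.2) hp ?_ ?_ ?_
  · intro χ hχ
    have hχ0 : e χ ≠ 0 := (Finset.mem_filter.1 hχ).2
    have hd := he2 χ hχ0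
    rw [← hd]
    refine ⟨D6_cases (h ⟨χ, rfl⟩), ?_⟩
    refine dvd_of_central hcc hcm hp hcp' χ.2 ?_
    have hres := CharDeep.CliffordCorr.restrict_eq_smul_of_invariant R χ.2 φ.2
      (fun g => funext fun n => hinv g n) (by rw [he1]; exact_mod_cast hχ0)
    have hr1 := congrFun hres 1
    have hrc := congrFun hres ⟨c, hcR⟩
    rw [he1] at hr1 hrc
    simp only [Pi.smul_apply, smul_eq_mul, OneMemClass.coe_one] at hr1 hrc
    rw [hrc, hr1]
    intro h5
    exact hφ (mul_left_cancel₀ (by exact_mod_cast hχ0) h5)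
  · refine le_trans ?_ hclass
    refine le_trans (le_of_eq ?_) (Cfsg.Agent.H669.OverCount.card_over_le R φ.2 hinv)
    rw [Nat.card_eq_fintype_card, Fintype.card_subtype]
    congr 1
    apply Finset.filter_congr
    intro χ _
    rw [he1]
    exact Nat.cast_ne_zero.symm
  · rw [← hidx, ← he3]
    apply Finset.sum_subset (Finset.subset_univ _)
    intro χ _ hχ
    have : e χ = 0 := by
      by_contra h0
      exact hχ (Finset.mem_filter.2 ⟨Finset.mem_univ _, h0⟩)
    rw [this]; norm_num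

/-! ### the general case -/

theorem top_min {G : Type u} [Group G] [Finite G] (h : charDegrees G ⊆ D 6) (f : G →* An 6)
    (hf : Function.Surjective f) (N : Subgroup G) [hN : N.Normal] (hperf : ⁅N, N⁆ = N)
    (hfN : ∀ g : G, ∃ n ∈ N, f n = f g) (hne : N ⊓ f.ker ≠ ⊥) (hab : ⁅N ⊓ f.ker, N ⊓ f.ker⁆ = ⊥)
    (hmin : ∀ K : Subgroup G, K.Normal → K ≤ N ⊓ f.ker → K = ⊥ ∨ K = N ⊓ f.ker) : False := by
  by_cases hcen : N ⊓ f.ker ≤ Subgroup.centralizer (N : Set G)
  · exact top_central h f hf N hperf hfN hcen hne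
  · let g : N →* An 6 := f.comp N.subtype
    have hg : Function.Surjective g := by
      intro y
      obtain ⟨x, rfl⟩ := hf y
      obtain ⟨n, hn, e⟩ := hfN x
      exact ⟨⟨n, hn⟩, e⟩
    have hk : g.ker = (N ⊓ f.ker).subgroupOf N := by
      ext x
      rw [MonoidHom.mem_ker, Subgroup.mem_subgroupOf]
      exact ⟨fun hx => ⟨x.2, hx⟩, fun hx => hx.2⟩
    have e : (N ⧸ (N ⊓ f.ker).subgroupOf N) ≃* An 6 :=
      (QuotientGroup.quotientMulEquivOfEq hk.symm).trans (QuotientGroup.quotientKerEquivOfSurjective g hg)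
    obtain ⟨Λ, i1, i2, i3, hnt, hfix, hst⟩ :=
      Cfsg.Agent.H7.AN.d1_inert (by norm_num) h N (N ⊓ f.ker) inf_le_left e hab hmin hcen
    obtain ⟨v, hv⟩ := exists_ne (1 : Λ)
    refine not_inert ?_ (hst v hv)
    intro htop
    apply hv
    apply hfix
    intro g
    have : g ∈ MulAction.stabilizer (An 6) v := by rw [htop]; trivial
    exact this

theorem eq_bot_of_perfect_solvable {G : Type*} [Group G] (M : Subgroup G) (hs : Group.IsSolvable M)
    (h : ⁅M, M⁆ = M) : M = ⊥ := by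
  by_contra hne
  have : Nontrivial M := (Subgroup.nontrivial_iff_ne_bot M).2 hne
  have h1 := Group.IsSolvable.commutator_lt_top_of_nontrivial M
  apply h1.ne
  have h2 : (commutator M).map M.subtype = M := by rw [Subgroup.map_subtype_commutator, h]
  rw [eq_top_iff]
  intro x _
  have hx : (x : G) ∈ (commutator M).map M.subtype := by rw [h2]; exact x.2
  obtain ⟨y, hy, hyx⟩ := hx
  have : y = x := Subtype.ext hyx
  rwa [← this]

theorem inf_eq_bot {G : Type u} [Group G] [Finite G] (h : charDegrees G ⊆ D 6) (f : G →* An 6)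
    (hf : Function.Surjective f) (N : Subgroup G) [hN : N.Normal] (hperf : ⁅N, N⁆ = N)
    (hfN : ∀ g : G, ∃ n ∈ N, f n = f g) (hsol : Group.IsSolvable (N ⊓ f.ker : Subgroup G)) : N ⊓ f.ker = ⊥ := by
  by_contra hne
  obtain ⟨M, hM⟩ : ∃ M : Subgroup G, M = N ⊓ f.ker := ⟨_, rfl⟩
  rw [← hM] at hsol hne
  have hMn : M.Normal := by rw [hM]; infer_instance
  have hMN : M ≤ N := by rw [hM]; exact inf_le_left
  have hMf : M ≤ f.ker := by rw [hM]; exact inf_le_right
  obtain ⟨V, hV⟩ := (Set.toFinite {V : Subgroup G | V.Normal ∧ V < M}).exists_maximal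
    ⟨⊥, inferInstance, bot_lt_iff_ne_bot.2 hne⟩
  have hVn : V.Normal := hV.prop.1
  have hVM : V < M := hV.prop.2
  let π : G →* G ⧸ V := QuotientGroup.mk' V
  have hπ : Function.Surjective π := QuotientGroup.mk'_surjective V
  have hπ1 : ∀ x, π x = 1 ↔ x ∈ V := fun x => QuotientGroup.eq_one_iff x
  let f1 : G ⧸ V →* An 6 := QuotientGroup.lift V f (fun x hx => hMf (hVM.le hx))
  have hf1 : ∀ x, f1 (π x) = f x := fun x => rfl
  have hN1 : (N.map π).Normal := hN.map π hπ
  have hM1 : N.map π ⊓ f1.ker = M.map π := by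
    ext y
    constructor
    · rintro ⟨⟨n, hn, rfl⟩, hy⟩
      refine ⟨n, ?_, rfl⟩
      rw [hM]
      exact ⟨hn, hy⟩
    · rintro ⟨m, hm, rfl⟩
      exact ⟨⟨m, hMN hm, rfl⟩, hMf hm⟩
  have hs1 : Group.IsSolvable (M.map π) :=
    Group.isSolvable_of_surjective (f := π.subgroupMap M) (π.subgroupMap_surjective M)
  have hmin : ∀ K : Subgroup (G ⧸ V), K.Normal → K ≤ M.map π → K = ⊥ ∨ K = M.map π := by
    intro K hK hKM
    have h1 : K.comap π ≤ M := by
      intro x hx
      obtain ⟨m, hm, hmx⟩ := hKM hx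
      have h2 : m⁻¹ * x ∈ V := by
        rw [← hπ1, map_mul, map_inv, hmx, inv_mul_cancel]
      have := M.mul_mem hm (hVM.le h2)
      rwa [mul_inv_cancel_left] at this
    have h2 : (K.comap π).map π = K := Subgroup.map_comap_eq_self_of_surjective hπ K
    by_cases h3 : K.comap π = M
    · right
      rw [← h2, h3]
    · left
      have h4 : V ≤ K.comap π := by
        intro x hx
        rw [Subgroup.mem_comap, (hπ1 x).2 hx]
        exact one_mem _
      have h5 : K.comap π ≤ V := hV.le_of_ge ⟨inferInstance, lt_of_le_of_ne h1 h3⟩ h4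
      rw [← h2, eq_bot_iff]
      rintro _ ⟨x, hx, rfl⟩
      exact Subgroup.mem_bot.2 ((hπ1 x).2 (h5 hx))
  have hne1 : M.map π ≠ ⊥ := by
    intro h1
    apply hVM.not_ge
    intro m hm
    rw [← hπ1]
    have : π m ∈ M.map π := ⟨m, hm, rfl⟩
    rw [h1] at this
    exact Subgroup.mem_bot.1 this
  have hab : ⁅M.map π, M.map π⁆ = ⊥ := by
    have hMn1 : (M.map π).Normal := hMn.map π hπ
    rcases hmin ⁅M.map π, M.map π⁆ inferInstance (Subgroup.commutator_le_left _ _) with h1 | h1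
    · exact h1
    · exact absurd (eq_bot_of_perfect_solvable _ hs1 h1) hne1
  refine top_min (G := G ⧸ V) ?_ f1 ?_ (N.map π) ?_ ?_ (by rw [hM1]; exact hne1) (by rw [hM1]; exact hab)
    (by rw [hM1]; exact hmin)
  · exact (Cfsg.Agent.H424.DegTools.charDegrees_of_surjective π hπ).trans h
  · intro y
    obtain ⟨x, hx⟩ := hf y
    exact ⟨π x, hx⟩
  · rw [← Subgroup.map_commutator, hperf]
  · intro y
    obtain ⟨x, rfl⟩ := hπ y
    obtain ⟨n, hn, e⟩ := hfN x
    exact ⟨π n, ⟨n, hn, rfl⟩, e⟩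

end Cfsg.Agent.H546.AN6
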